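import Mathlib.RingTheory.Invariant.Basic
import Mathlib.FieldTheory.PrimitiveElement
import Mathlib.FieldTheory.Fixed
import Mathlib.RingTheory.Ideal.Pointwise
import Mathlib.RingTheory.LocalRing.ResidueField.Ideal
import Mathlib.Algebra.Polynomial.Expand
import Mathlib.Algebra.CharP.Basic

/-! An invariant element separating the cosets of the inertia group. -/

set_option autoImplicit false

universe u

open scoped Pointwise
open Polynomial

namespace Groth.Agent.InertiaEt31

variable {G R : Type u} [Group G] [Finite G] [CommRing R] [MulSemiringAction G R] (q : Ideal R) [q.IsPrime]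

theorem smul_eq_of_le {σ : G} (h : σ • q ≤ q) : σ • q = q := by
  have hn : ∀ n : ℕ, σ ^ (n + 1) • q ≤ σ • q := by
    intro n
    induction n with
    | zero => simp
    | succ n ih => rw [pow_succ, mul_smul]; exact (Ideal.map_mono h).trans ih
  refine le_antisymm h ?_
  have := hn (orderOf σ - 1)
  rwa [Nat.sub_add_cancel (orderOf_pos σ), pow_orderOf_eq_one, one_smul] at this

/-- Separation inside the decomposition group. -/
theorem exists_moved : ∃ x : R, x ∉ q ∧
    ∀ σ : MulAction.stabilizer G q, (σ : G) ∉ q.inertia G → (σ : G) • x - x ∉ q := by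
  classical
  let A := FixedPoints.subring R G
  haveI : SMulCommClass G A R := ⟨fun g c r => by
    show g • ((c : R) * r) = (c : R) * g • r
    rw [smul_mul', c.2 g]⟩
  haveI : Algebra.IsInvariant A R G := ⟨fun b hb => ⟨⟨b, hb⟩, rfl⟩⟩
  let P := q.under A
  haveI : q.LiesOver P := ⟨rfl⟩
  haveI : P.IsPrime := Ideal.IsPrime.under A q
  let K := FractionRing (A ⧸ P)
  let L := FractionRing (R ⧸ q)
  letI : Algebra K L := FractionRing.liftAlgebra (A ⧸ P) L
  let H := (IsFractionRing.stabilizerHom G P q K L).range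
  haveI : Finite H := Finite.of_surjective _ (IsFractionRing.stabilizerHom G P q K L).rangeRestrict_surjective
  obtain ⟨α, hα⟩ := Field.exists_primitive_element (FixedPoints.subfield H L) L
  obtain ⟨r0, s0, hs0, hrs⟩ := IsFractionRing.div_surjective (A := R ⧸ q) α
  obtain ⟨r, rfl⟩ := Ideal.Quotient.mk_surjective r0
  obtain ⟨s, rfl⟩ := Ideal.Quotient.mk_surjective s0
  have hs : s ∉ q := fun h => nonZeroDivisors.ne_zero hs0 (Ideal.Quotient.eq_zero_iff_mem.2 h)
  let ι : R →+* L := (algebraMap (R ⧸ q) L).comp (Ideal.Quotient.mk q)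
  have hι : ∀ y, ι y = 0 ↔ y ∈ q := fun y =>
    (map_eq_zero_iff _ (IsFractionRing.injective (R ⧸ q) L)).trans Ideal.Quotient.eq_zero_iff_mem
  have hσ : ∀ (σ : MulAction.stabilizer G q) (y : R),
      IsFractionRing.stabilizerHom G P q K L σ (ι y) = ι ((σ : G) • y) :=
    fun σ y => IsFractionRing.stabilizerHom_apply_apply_mk G P q K L σ y
  have hmem : ∀ (σ : MulAction.stabilizer G q) (y : R), y ∉ q → (σ : G) • y ∉ q := fun σ y hy h => hy (by
    have h' : (σ : G) • y ∈ (σ : G) • q := by rw [σ.2]; exact h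
    exact (Ideal.smul_mem_pointwise_smul_iff).1 h')
  let Dg := MulAction.stabilizer G q
  haveI : Fintype Dg := Fintype.ofFinite _
  let c := ∏ d : Dg, (d : G) • s
  have hcfix : ∀ d : Dg, (d : G) • c = c := fun d => by
    show (d : G) • (∏ d' : Dg, (d' : G) • s) = _
    rw [Finset.smul_prod']
    exact Fintype.prod_equiv (Equiv.mulLeft d) _ _ fun d' => by rw [← mul_smul]; rfl
  have hc : ι c ≠ 0 := fun h => by
    rw [hι] at h
    obtain ⟨d, -, hd⟩ := (Ideal.IsPrime.prod_mem_iff).1 h
    exact hmem d s hs hd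
  let x0 := r * ∏ d ∈ Finset.univ.erase (1 : Dg), (d : G) • s
  have hx0 : ι x0 = α * ι c := by
    show ι (r * _) = _ * ι (∏ d : Dg, (d : G) • s)
    rw [← Finset.mul_prod_erase (Finset.univ : Finset Dg) _ (Finset.mem_univ 1), map_mul, map_mul, ← mul_assoc]
    congr 1
    rw [← hrs, show ((1 : Dg) : G) • s = s from one_smul G s]
    exact (div_mul_cancel₀ _ (fun h => hs ((hι s).1 h))).symm
  have hkey : ∀ σ : Dg, (σ : G) ∉ q.inertia G → (σ : G) • x0 - x0 ∉ q := by
    intro σ hσI hmem'
    apply hσI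
    have h1 : IsFractionRing.stabilizerHom G P q K L σ α = α := by
      have h2 := (hι _).2 hmem'
      rw [map_sub, sub_eq_zero, ← hσ, hx0, map_mul, hσ σ c, hcfix] at h2
      exact mul_right_cancel₀ hc h2
    let τ : H := ⟨_, σ, rfl⟩
    let τ' : L →ₐ[FixedPoints.subfield H L] L := MulSemiringAction.toAlgHom (FixedPoints.subfield H L) L τ
    have h4 : τ' = AlgHom.id (FixedPoints.subfield H L) L := by
      refine AlgHom.ext fun y => ?_
      have hy : y ∈ IntermediateField.adjoin (FixedPoints.subfield H L) ({α} : Set L) := hα ▸ trivial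
      induction hy using IntermediateField.adjoin_induction with
      | mem z hz => rw [Set.mem_singleton_iff.1 hz]; exact h1
      | algebraMap z => exact τ'.commutes z
      | add a b _ _ ha hb => rw [map_add, map_add, ha, hb]
      | inv a _ ha => rw [map_inv₀, map_inv₀, ha]
      | mul a b _ _ ha hb => rw [map_mul, map_mul, ha, hb]
    intro y
    show (σ : G) • y - y ∈ q
    rw [← hι, map_sub, sub_eq_zero, ← hσ]
    exact DFunLike.congr_fun h4 (ι y)
  by_cases hx : x0 ∈ q
  · refine ⟨x0 + 1, fun h => (‹q.IsPrime›).ne_top ((Ideal.eq_top_iff_one q).2 (by simpa using q.sub_mem h hx)),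
      fun σ hσI => ?_⟩
    rw [smul_add, smul_one, show ((σ : G) • x0 + 1 - (x0 + 1)) = (σ : G) • x0 - x0 by ring]
    exact hkey σ hσI
  · exact ⟨x0, hx, hkey⟩

/-- An element fixed by inertia separating the cosets of the inertia group. -/
theorem exists_separating : ∃ θ : R, (∀ i ∈ q.inertia G, i • θ = θ) ∧
    ∀ σ : G, σ ∉ q.inertia G → σ • θ - θ ∉ q := by
  classical
  obtain ⟨x, hxq, hx⟩ := exists_moved (G := G) q
  let Dg := MulAction.stabilizer G q
  have hnot : ∀ σ : G, σ ∉ Dg → ∃ a, a ∈ σ • q ∧ a ∉ q := fun σ hσ =>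
    SetLike.not_le_iff_exists.1 fun h => hσ (smul_eq_of_le q h)
  choose a ha haq using hnot
  haveI : Fintype G := Fintype.ofFinite _
  let e0 := ∏ σ : {σ : G // σ ∉ Dg}, a σ.1 σ.2
  have he0 : e0 ∉ q := fun h => by
    obtain ⟨σ, -, hσ⟩ := (Ideal.IsPrime.prod_mem_iff).1 h
    exact haq σ.1 σ.2 hσ
  have he0' : ∀ σ : G, σ ∉ Dg → e0 ∈ σ • q := fun σ hσ => by
    show (∏ τ : {σ : G // σ ∉ Dg}, a τ.1 τ.2) ∈ σ • q
    rw [← Finset.mul_prod_erase (Finset.univ : Finset {σ : G // σ ∉ Dg}) _ (Finset.mem_univ ⟨σ, hσ⟩)]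
    exact Ideal.mul_mem_right _ _ (ha σ hσ)
  let e := ∏ d : Dg, (d : G) • e0
  have hefix : ∀ d : Dg, (d : G) • e = e := fun d => by
    show (d : G) • (∏ d' : Dg, (d' : G) • e0) = _
    rw [Finset.smul_prod']
    exact Fintype.prod_equiv (Equiv.mulLeft d) _ _ fun d' => by rw [← mul_smul]; rfl
  have he : e ∉ q := fun h => by
    obtain ⟨d, -, hd⟩ := (Ideal.IsPrime.prod_mem_iff).1 h
    have h' : (d : G) • e0 ∈ (d : G) • q := by rw [d.2]; exact hd
    exact he0 (Ideal.smul_mem_pointwise_smul_iff.1 h')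
  have he' : ∀ σ : G, σ ∉ Dg → e ∈ σ • q := fun σ hσ => by
    show (∏ d : Dg, (d : G) • e0) ∈ σ • q
    rw [← Finset.mul_prod_erase (Finset.univ : Finset Dg) _ (Finset.mem_univ 1),
      show ((1 : Dg) : G) • e0 = e0 from one_smul G e0]
    exact Ideal.mul_mem_right _ _ (he0' σ hσ)
  let w := e * x
  let I := q.inertia G
  haveI : Fintype I := Fintype.ofFinite _
  have hIle : I ≤ Dg := Ideal.inertia_le_stabilizer q
  -- the residue field
  let κ := q.ResidueField
  let ι : R →+* κ := algebraMap R κ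
  have hι : ∀ y, ι y = 0 ↔ y ∈ q := fun y => Ideal.algebraMap_residueField_eq_zero
  obtain ⟨p, hp⟩ := ExpChar.exists κ
  haveI := hp
  obtain ⟨q', m', hm', hm, hpinj⟩ : ∃ q' m' : ℕ, (m' : κ) ≠ 0 ∧ Fintype.card I = q' * m' ∧
      (∀ a b : κ, a ^ q' = b ^ q' → a = b) ∧ 0 < q' ∧ ∀ b : κ, ((X - C b) ^ q' : κ[X]) = X ^ q' - C (b ^ q') := by
    cases hp with
    | zero =>
      exact ⟨1, Fintype.card I, by exact_mod_cast Fintype.card_ne_zero, (one_mul _).symm,
        fun a b h => by simpa using h, one_pos, fun b => by simp⟩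
    | prime hprime =>
      obtain ⟨n, m', hnd, hmn⟩ := Nat.exists_eq_pow_mul_and_not_dvd (n := Fintype.card I) Fintype.card_ne_zero p hprime.ne_one
      haveI := Fact.mk hprime
      exact ⟨p ^ n, m', fun h => hnd ((CharP.cast_eq_zero_iff κ p m').1 h), hmn,
        fun a b h => (iterateFrobenius κ p n).injective (by simpa [iterateFrobenius_def] using h),
        pow_pos hprime.pos n, fun b => by rw [sub_pow_char_pow, C_pow]⟩
  let θ := (MulSemiringAction.charpoly I w).coeff (q' * (m' - 1))
  have hm'pos : 0 < m' := Nat.pos_of_ne_zero fun h => hm' (by rw [h, Nat.cast_zero])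
  have hcp : ∀ (S : Type u) [CommRing S] (f : R →+* S), (∀ i : I, f ((i : G) • w) = f w) →
      (MulSemiringAction.charpoly I w).map f = (X - C (f w)) ^ Fintype.card I := fun S _ f hf => by
    rw [MulSemiringAction.charpoly_eq, Polynomial.map_prod, ← Finset.card_univ, ← Finset.prod_const]
    refine Finset.prod_congr rfl fun i _ => ?_
    rw [Polynomial.map_sub, Polynomial.map_X, Polynomial.map_C]
    exact congrArg (fun z => X - C z) (hf i)
  refine ⟨θ, fun i hi => MulSemiringAction.smul_coeff_charpoly (G := I) w _ ⟨i, hi⟩, fun σ hσ => ?_⟩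
  have hθ : ι θ = -(m' : κ) * ι w ^ q' := by
    obtain ⟨-, hq'pos, hsub⟩ := hpinj
    rw [show ι θ = ((MulSemiringAction.charpoly I w).map ι).coeff (q' * (m' - 1)) from (Polynomial.coeff_map ι _).symm,
      hcp κ ι fun i => sub_eq_zero.1 (by rw [← map_sub, hι]; exact i.2 w), hm, pow_mul, hsub,
      show (X ^ q' - C (ι w ^ q') : κ[X]) ^ m' = expand κ q' ((X - C (ι w ^ q')) ^ m') by
        simp [map_pow, expand_X],
      mul_comm q', coeff_expand_mul hq'pos, sub_eq_add_neg X, ← map_neg, coeff_X_add_C_pow,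
      show m' - (m' - 1) = 1 by omega, pow_one, Nat.choose_symm (show 1 ≤ m' by omega), Nat.choose_one_right]
    ring
  have hw : w ∉ q := fun h => ((‹q.IsPrime›).mem_or_mem h).elim he hxq
  by_cases hσD : σ ∈ Dg
  · intro h
    have h1 := (hι _).2 h
    rw [map_sub, sub_eq_zero] at h1
    have hdiff : ι (σ • w) = ι w := by
      apply hpinj.1
      have h2 : ι (σ • θ) = -(m' : κ) * ι (σ • w) ^ q' := by
        have h3 : θ + (m' : R) * w ^ q' ∈ q := by rw [← hι, map_add, map_mul, map_natCast, map_pow, hθ]; ring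
        have h4 : σ • (θ + (m' : R) * w ^ q') ∈ q := by
          have h5 := Ideal.smul_mem_pointwise_smul σ _ _ h3
          rwa [show σ • q = q from hσD] at h5
        rw [smul_add, smul_mul', smul_pow', show σ • (m' : R) = (m' : R) from
          map_natCast (MulSemiringAction.toRingHom G R σ) m'] at h4
        have h6 := (hι _).2 h4
        rw [map_add, map_mul, map_natCast, map_pow] at h6
        rw [eq_neg_of_add_eq_zero_left h6]
        ring
      exact mul_left_cancel₀ (neg_ne_zero.2 hm') (h2.symm.trans (h1.trans hθ))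
    rw [← sub_eq_zero, ← map_sub, hι] at hdiff
    rw [show σ • w = e * σ • x by rw [smul_mul', hefix ⟨σ, hσD⟩], ← mul_sub] at hdiff
    exact ((‹q.IsPrime›).mem_or_mem hdiff).elim he (hx ⟨σ, hσD⟩ hσ)
  · have hinv : σ⁻¹ ∉ Dg := fun h => hσD (by simpa using Subgroup.inv_mem _ h)
    haveI : (σ⁻¹ • q).IsPrime := inferInstance
    have h1 : θ ∈ σ⁻¹ • q := by
      let f := Ideal.Quotient.mk (σ⁻¹ • q)
      have hew : ∀ i : I, f ((i : G) • w) = 0 := fun i => by
        rw [smul_mul', hefix ⟨i, hIle i.2⟩]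
        exact Ideal.Quotient.eq_zero_iff_mem.2 (Ideal.mul_mem_right _ _ (he' _ hinv))
      have hw0 : f w = 0 := by simpa using hew 1
      rw [← Ideal.Quotient.eq_zero_iff_mem,
        show f θ = ((MulSemiringAction.charpoly I w).map f).coeff (q' * (m' - 1)) from (Polynomial.coeff_map f _).symm,
        hcp _ f fun i => (hew i).trans hw0.symm, hw0, map_zero, sub_zero, coeff_X_pow, if_neg]
      intro h
      have h7 : m' - 1 = m' := Nat.eq_of_mul_eq_mul_left hpinj.2.1 (h.trans hm)
      omega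
    have h2 : σ • θ ∈ q := by
      have := Ideal.smul_mem_pointwise_smul σ _ _ h1
      rwa [smul_inv_smul] at this
    intro h
    have h3 := q.sub_mem h2 h
    rw [sub_sub_cancel, ← hι, hθ] at h3
    exact mul_ne_zero (neg_ne_zero.2 hm') (pow_ne_zero _ fun h0 => hw ((hι w).1 h0)) h3

end Groth.Agent.InertiaEt31
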