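import Groth.Agent.InertiaEt31.Separate
import Groth.Prelude.Def_Pi1
import Mathlib.RingTheory.Etale.StandardEtale
import Mathlib.Algebra.Ring.Action.Invariant
import Mathlib.Algebra.Polynomial.Splits
import Mathlib.GroupTheory.GroupAction.Quotient
import Mathlib.RingTheory.Localization.Away.Basic

/-! The invariants of inertia are standard étale over the invariants. -/

set_option autoImplicit false

universe u

open scoped Pointwise
open Polynomial

namespace Groth.Agent.InertiaEt31

variable {G R : Type u} [Group G] [Finite G] [CommRing R] [MulSemiringAction G R]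

theorem exists_lift {p : R[X]} (hp : ∀ (g : G) n, g • p.coeff n = p.coeff n) :
    ∃ p' : (FixedPoints.subring R G)[X], p'.map (FixedPoints.subring R G).subtype = p := by
  rw [← Polynomial.mem_lifts, Polynomial.lifts_iff_coeff_lifts]
  exact fun n => ⟨⟨p.coeff n, fun g => hp g n⟩, rfl⟩

theorem fixed_map {p' : (FixedPoints.subring R G)[X]} (g : G) :
    (p'.map (FixedPoints.subring R G).subtype).map (MulSemiringAction.toRingHom G R g) =
      p'.map (FixedPoints.subring R G).subtype := by
  rw [Polynomial.map_map]
  exact congrArg (fun f => p'.map f) (RingHom.ext fun z => z.2 g)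

theorem exists_etale (q : Ideal R) [q.IsPrime] :
    ∃ b : FixedPoints.subring R (q.inertia G),
      b ∉ q.comap (FixedPoints.subring R (q.inertia G)).subtype ∧
      Algebra.Etale (FixedPoints.subring R G) (Localization.Away b) := by
  classical
  obtain ⟨θ, hθI, hθ⟩ := exists_separating (G := G) q
  let I := q.inertia G
  haveI : Fintype (G ⧸ I) := Fintype.ofFinite _
  have hwell : ∀ a b : G, QuotientGroup.leftRel I a b → a • θ = b • θ := fun a b h => by
    rw [QuotientGroup.leftRel_apply] at h
    conv_rhs => rw [show b = a * (a⁻¹ * b) by group, mul_smul, hθI _ h]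
  let act : G ⧸ I → R := Quotient.lift (fun g => g • θ) hwell
  have hact : ∀ (g : G) (c : G ⧸ I), act (g • c) = g • act c := fun g c => by
    induction c using QuotientGroup.induction_on with
    | H a => exact mul_smul g a θ
  let F : R[X] := ∏ c, (X - C (act c))
  have hperm : ∀ (g : G) (Φ : G ⧸ I → R[X]), (∀ c, (Φ c).map (MulSemiringAction.toRingHom G R g) = Φ (g • c)) →
      (∑ c, Φ c).map (MulSemiringAction.toRingHom G R g) = ∑ c, Φ c ∧
      (∏ c, Φ c).map (MulSemiringAction.toRingHom G R g) = ∏ c, Φ c := fun g Φ h => by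
    constructor
    · rw [Polynomial.map_sum]
      exact Fintype.sum_equiv (MulAction.toPerm g) _ _ h
    · rw [Polynomial.map_prod]
      exact Fintype.prod_equiv (MulAction.toPerm g) _ _ h
  have hFfix : ∀ g : G, F.map (MulSemiringAction.toRingHom G R g) = F := fun g =>
    (hperm g (fun c => X - C (act c)) fun c => by
      rw [Polynomial.map_sub, Polynomial.map_X, Polynomial.map_C, hact]; rfl).2
  have hlift : ∀ p : R[X], (∀ g : G, p.map (MulSemiringAction.toRingHom G R g) = p) →
      ∃ p' : (FixedPoints.subring R G)[X], p'.map (FixedPoints.subring R G).subtype = p := fun p hp =>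
    exists_lift fun g n => by
      have := congrArg (fun P => Polynomial.coeff P n) (hp g)
      rwa [Polynomial.coeff_map] at this
  obtain ⟨f, hf⟩ := hlift F hFfix
  have hinj : Function.Injective (FixedPoints.subring R G).subtype := Subtype.val_injective
  have hfm : f.Monic := Function.Injective.monic_map_iff hinj |>.2 (by
    rw [hf]; exact monic_prod_of_monic _ _ fun c _ => monic_X_sub_C _)
  let B := FixedPoints.subring R I
  let θB : B := ⟨θ, fun i => hθI i i.2⟩
  have hev : ∀ p : (FixedPoints.subring R G)[X],
      ((Polynomial.aeval θB p : B) : R) = (p.map (FixedPoints.subring R G).subtype).eval θ := fun p => by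
    show B.subtype (Polynomial.aeval θB p) = _
    rw [Polynomial.aeval_def, Polynomial.hom_eval₂, Polynomial.eval_map]
    rfl
  have hder : ∀ c₀ : G ⧸ I, F.derivative.eval (act c₀) = ∏ c ∈ Finset.univ.erase c₀, (act c₀ - act c) := fun c₀ => by
    rw [Polynomial.derivative_prod_finset, Polynomial.eval_finset_sum, Finset.sum_eq_single c₀]
    · simp [Polynomial.eval_prod]
    · intro c _ hc
      rw [Polynomial.eval_mul, Polynomial.eval_prod,
        Finset.prod_eq_zero (Finset.mem_erase.2 ⟨hc.symm, Finset.mem_univ c₀⟩) (by simp), zero_mul]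
    · simp
  let c₀ : G ⧸ I := ((1 : G) : G ⧸ I)
  have hc₀ : act c₀ = θ := one_smul G θ
  let b : B := Polynomial.aeval θB f.derivative
  have hb : (b : R) = ∏ c ∈ Finset.univ.erase c₀, (θ - act c) := by
    rw [hev, ← Polynomial.derivative_map, hf, ← hc₀, hder, hc₀]
  have hbq : b ∉ q.comap B.subtype := fun h => by
    have h' : (b : R) ∈ q := h
    rw [hb] at h'
    obtain ⟨c, hc, hcq⟩ := (Ideal.IsPrime.prod_mem_iff).1 h'
    obtain ⟨g, rfl⟩ := QuotientGroup.mk_surjective c
    have hg : g ∉ I := fun hgI => (Finset.mem_erase.1 hc).1 (by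
      rw [QuotientGroup.eq]; simpa using I.inv_mem hgI)
    exact hθ g hg (by have := q.neg_mem hcq; rwa [neg_sub] at this)
  refine ⟨b, hbq, ?_⟩
  let L := Localization.Away b
  let P : StandardEtalePair (FixedPoints.subring R G) :=
    ⟨f, hfm, f.derivative, 1, 0, 1, by rw [mul_one, mul_zero, add_zero, pow_one]⟩
  have hmap : P.HasMap (algebraMap B L θB) := by
    refine ⟨?_, ?_⟩
    · rw [Polynomial.aeval_algebraMap_apply, show Polynomial.aeval θB f = 0 from Subtype.val_injective (by
        rw [hev, hf, Polynomial.eval_prod]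
        exact Finset.prod_eq_zero (Finset.mem_univ c₀) (by rw [← hc₀]; simp)), map_zero]
    · rw [Polynomial.aeval_algebraMap_apply]
      exact IsLocalization.Away.algebraMap_isUnit b
  let φ := P.lift (algebraMap B L θB) hmap
  have hφ : ∀ p, φ (Polynomial.aeval P.X p) = algebraMap B L (Polynomial.aeval θB p) := fun p => by
    rw [← Polynomial.aeval_algHom_apply, StandardEtalePair.lift_X, Polynomial.aeval_algebraMap_apply]
  -- interpolation
  have hsurjB : ∀ z : B, ∃ p : (FixedPoints.subring R G)[X], Polynomial.aeval θB p = z * b := by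
    intro z
    have hzwell : ∀ a c : G, QuotientGroup.leftRel I a c → a • (z : R) = c • (z : R) := fun a c h => by
      rw [QuotientGroup.leftRel_apply] at h
      conv_rhs => rw [show c = a * (a⁻¹ * c) by group, mul_smul]
      exact congrArg _ (z.2 ⟨_, h⟩).symm
    let zact : G ⧸ I → R := Quotient.lift (fun g => g • (z : R)) hzwell
    have hzact : ∀ (g : G) (c : G ⧸ I), zact (g • c) = g • zact c := fun g c => by
      induction c using QuotientGroup.induction_on with
      | H a => exact mul_smul g a (z : R)
    obtain ⟨p, hp⟩ := hlift (∑ c, C (zact c) * ∏ d ∈ Finset.univ.erase c, (X - C (act d))) fun g =>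
      (hperm g (fun c => C (zact c) * ∏ d ∈ Finset.univ.erase c, (X - C (act d))) fun c => by
        rw [Polynomial.map_mul, Polynomial.map_C, Polynomial.map_prod, hzact]
        refine congrArg (C (g • zact c) * ·) (Finset.prod_equiv (MulAction.toPerm g) (fun d => ?_) fun d _ => ?_)
        · simp
        · rw [Polynomial.map_sub, Polynomial.map_X, Polynomial.map_C, MulAction.toPerm_apply, hact]
          rfl).1
    refine ⟨p, Subtype.val_injective ?_⟩
    rw [hev, hp, Polynomial.eval_finset_sum, Finset.sum_eq_single c₀]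
    · show _ = (z : R) * (b : R)
      rw [hb, Polynomial.eval_mul, Polynomial.eval_C, Polynomial.eval_prod, show zact c₀ = (z : R) from one_smul G _]
      exact congrArg ((z : R) * ·) (Finset.prod_congr rfl fun d _ => by simp)
    · intro c _ hc
      rw [Polynomial.eval_mul, Polynomial.eval_prod,
        Finset.prod_eq_zero (Finset.mem_erase.2 ⟨hc.symm, Finset.mem_univ c₀⟩) (by rw [← hc₀]; simp), mul_zero]
    · simp
  have hgu := P.hasMap_X.2
  have hsurj : Function.Surjective φ := by
    intro y
    obtain ⟨z, ⟨_, n, rfl⟩, rfl⟩ := IsLocalization.exists_mk'_eq (Submonoid.powers b) y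
    obtain ⟨p, hp⟩ := hsurjB z
    refine ⟨Polynomial.aeval P.X p * ↑(hgu.unit⁻¹) ^ (n + 1), ?_⟩
    rw [IsLocalization.eq_mk'_iff_mul_eq, map_mul, map_pow, hφ, hp, map_mul]
    have h1 : algebraMap B L b * φ ↑(hgu.unit⁻¹) = 1 := by
      rw [← hφ, ← map_mul, IsUnit.mul_val_inv, map_one]
    simp only [map_pow]
    calc algebraMap B L z * algebraMap B L b * φ ↑(hgu.unit⁻¹) ^ (n + 1) * algebraMap B L b ^ n
        = algebraMap B L z * (algebraMap B L b * φ ↑(hgu.unit⁻¹)) ^ (n + 1) := by ring
      _ = algebraMap B L z := by rw [h1, one_pow, mul_one]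
  have hden : ∀ z : P.Ring, ∃ (N : ℕ) (p : (FixedPoints.subring R G)[X]), z * Polynomial.aeval P.X P.g ^ N = Polynomial.aeval P.X p := by
    intro z
    let mkR : (FixedPoints.subring R G)[X][X] →ₐ[FixedPoints.subring R G] P.Ring :=
      Ideal.Quotient.mkₐ (FixedPoints.subring R G) _
    obtain ⟨H, rfl⟩ : ∃ H, mkR H = z := Ideal.Quotient.mk_surjective z
    induction H using Polynomial.induction_on' with
    | add H1 H2 h1 h2 =>
      obtain ⟨N1, p1, e1⟩ := h1
      obtain ⟨N2, p2, e2⟩ := h2
      refine ⟨N1 + N2, p1 * P.g ^ N2 + p2 * P.g ^ N1, ?_⟩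
      simp only [map_add, map_mul, map_pow, ← e1, ← e2]
      ring
    | monomial n c =>
      refine ⟨n, c, ?_⟩
      have hX : Polynomial.aeval P.X c = mkR (Polynomial.C c) := by
        have : Polynomial.aeval (R := FixedPoints.subring R G) P.X = mkR.comp Polynomial.CAlgHom :=
          Polynomial.algHom_ext (by rw [Polynomial.aeval_X]; rfl)
        exact DFunLike.congr_fun this c
      have hY : mkR Polynomial.X = ↑(hgu.unit⁻¹) := P.inv_aeval_X_g.symm
      rw [← Polynomial.C_mul_X_pow_eq_monomial, map_mul, map_pow, ← hX, hY, mul_assoc, ← mul_pow,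
        IsUnit.val_inv_mul, one_pow, mul_one]
  have hinjφ : Function.Injective φ := by
    rw [injective_iff_map_eq_zero]
    intro z hz
    obtain ⟨N, p, hp⟩ := hden z
    have h0 : algebraMap B L (Polynomial.aeval θB p) = 0 := by
      rw [← hφ, ← hp, map_mul, hz, zero_mul]
    obtain ⟨⟨_, M, rfl⟩, hM⟩ := (IsLocalization.map_eq_zero_iff (Submonoid.powers b) L _).1 h0
    let p2 := p * f.derivative ^ M
    have hp2 : (p2.map (FixedPoints.subring R G).subtype).eval θ = 0 := by
      rw [← hev, map_mul, map_pow, mul_comm]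
      exact congrArg Subtype.val hM
    let P2 := p2.map (FixedPoints.subring R G).subtype
    have hroot : ∀ c, P2.eval (act c) = 0 := fun c => by
      obtain ⟨g, rfl⟩ := QuotientGroup.mk_surjective c
      show P2.eval (MulSemiringAction.toRingHom G R g θ) = 0
      rw [show P2 = (p2.map (FixedPoints.subring R G).subtype).map (MulSemiringAction.toRingHom G R g) from
        (fixed_map (p' := p2) g).symm, Polynomial.eval_map, Polynomial.eval₂_at_apply, hp2, map_zero]
    have hdvd : F ∣ P2 * F.derivative := by
      rw [Polynomial.derivative_prod_finset, Finset.mul_sum]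
      refine Finset.dvd_sum fun c _ => ?_
      obtain ⟨Qc, hQc⟩ := Polynomial.dvd_iff_isRoot.2 (hroot c)
      refine ⟨Qc, ?_⟩
      show _ = (∏ c, (X - C (act c))) * Qc
      rw [← Finset.mul_prod_erase (Finset.univ : Finset (G ⧸ I)) _ (Finset.mem_univ c), hQc]
      simp
      ring
    have hdvd' : f ∣ p2 * f.derivative := by
      rw [← Polynomial.map_dvd_map (FixedPoints.subring R G).subtype hinj hfm, Polynomial.map_mul,
        ← Polynomial.derivative_map, hf]
      exact hdvd
    obtain ⟨r, hr⟩ := hdvd'
    have h2 : Polynomial.aeval P.X p * (Polynomial.aeval P.X P.g ^ M * Polynomial.aeval P.X P.g) = 0 := by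
      have := congrArg (Polynomial.aeval P.X) hr
      rw [map_mul, map_mul, map_mul, map_pow, show Polynomial.aeval P.X f = 0 from P.hasMap_X.1, zero_mul] at this
      rw [← mul_assoc]
      exact this
    rw [← hp, mul_assoc] at h2
    exact (IsUnit.mul_left_eq_zero ((hgu.pow _).mul ((hgu.pow _).mul hgu))).1 h2
  exact Algebra.Etale.of_equiv (AlgEquiv.ofBijective φ ⟨hinjφ, hsurj⟩)

end Groth.Agent.InertiaEt31
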